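import Cfsg.Agent.Lib.Helper12.TCG.Fi22Ia51840.Fin0
import Cfsg.Agent.Lib.Helper12.TCG.Fi22Ia51840.Fin1
import Cfsg.Agent.Lib.Helper12.TCG.Fi22Ia51840.Fin2
import Cfsg.Agent.Lib.Helper12.TCG.Fi22Ia51840.Fin3
import Cfsg.Agent.Lib.Helper12.TCG.Fi22Ia51840.Fin4
import Cfsg.Agent.Lib.Helper12.TCG.Fi22Ia51840.Fin5
import Cfsg.Agent.Lib.Helper12.TCG.Fi22Ia51840.Fin6
import Cfsg.Agent.Lib.Helper12.TCG.Fi22Ia51840.Fin7
import Cfsg.Agent.Lib.Helper12.TCG.Fi22Ia51840.Fin8
import Cfsg.Agent.Lib.Helper12.TCG.Fi22Ia51840.Fin9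
import Cfsg.Agent.Lib.Helper12.TCG.Fi22Ia51840.Fin10
import Cfsg.Agent.Lib.Helper12.TCG.Fi22Ia51840.Fin11
import Cfsg.Agent.Lib.Helper12.TCG.Fi22Ia51840.Fin12
import Cfsg.Agent.Lib.Helper12.Fi22M.PresI6

/-! the final table for Fi22Ia51840 (generated, helper12) -/

set_option autoImplicit false
set_option maxRecDepth 100000
set_option linter.unusedSimpArgs false
set_option Elab.async false

namespace Cfsg.Agent.Lib.Helper12.TCG.Fi22Ia51840

open Cfsg.Agent.Lib.Helper12.TC Cfsg.Agent.Lib.Helper12.TCG Cfsg.Agent.Lib.Helper12.Fi22M.PresI6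

theorem hdefs_0 : defsPartK F 0 16384 = true := by decide +kernel

theorem hdefs_1 : defsPartK F 16384 16384 = true := by decide +kernel

theorem hdefs_2 : defsPartK F 32768 16384 = true := by decide +kernel

theorem hdefs_3 : defsPartK F 49152 2687 = true := by decide +kernel

theorem hdefs : defsK F cD = true :=
  defsK_of_OK (defsOK_step hdefs_3 rfl
    (defsOK_step hdefs_2 rfl
    (defsOK_step hdefs_1 rfl
    (defsOK_step hdefs_0 rfl
    (defsOK_start F)))))

theorem beq_chain {x A B : ℕ} (h1 : Nat.beq x A = true) (h2 : Nat.beq A B = true) :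
    Nat.beq x B = true := by
  rw [Nat.eq_of_beq_eq_true h1]
  exact h2

theorem hlive' : Nat.beq (liveK (fr0 ++ (fr1 ++ (fr2 ++ (fr3 ++ (fr4 ++ (fr5 ++ (fr6 ++ (fr7 ++ (fr8 ++ (fr9 ++ (fr10 ++ (fr11 ++ (fr12)))))))))))))) (Nat.lor LIVE0 (Nat.lor LIVE1 (Nat.lor LIVE2 (Nat.lor LIVE3 (Nat.lor LIVE4 (Nat.lor LIVE5 (Nat.lor LIVE6 (Nat.lor LIVE7 (Nat.lor LIVE8 (Nat.lor LIVE9 (Nat.lor LIVE10 (Nat.lor LIVE11 (LIVE12))))))))))))) = true :=
  (liveK_append_beq hlive_0 (liveK_append_beq hlive_1 (liveK_append_beq hlive_2 (liveK_append_beq hlive_3 (liveK_append_beq hlive_4 (liveK_append_beq hlive_5 (liveK_append_beq hlive_6 (liveK_append_beq hlive_7 (liveK_append_beq hlive_8 (liveK_append_beq hlive_9 (liveK_append_beq hlive_10 (liveK_append_beq hlive_11 hlive_12))))))))))))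

theorem hliveq : Nat.beq (Nat.lor LIVE0 (Nat.lor LIVE1 (Nat.lor LIVE2 (Nat.lor LIVE3 (Nat.lor LIVE4 (Nat.lor LIVE5 (Nat.lor LIVE6 (Nat.lor LIVE7 (Nat.lor LIVE8 (Nat.lor LIVE9 (Nat.lor LIVE10 (Nat.lor LIVE11 (LIVE12))))))))))))) LIVE = true := by decide +kernel

theorem hlive : Nat.beq (liveK finrecs) LIVE = true := by
  unfold finrecs
  exact beq_chain hlive' hliveq

theorem hlive0 : bitK LIVE 0 = true := by decide +kernel

theorem hfin : finG cIV F cK 6 finrecs = true :=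
  finG_of_parts hlive hlive0 (Fn.allListK_append hfin_0 (Fn.allListK_append hfin_1 (Fn.allListK_append hfin_2 (Fn.allListK_append hfin_3 (Fn.allListK_append hfin_4 (Fn.allListK_append hfin_5 (Fn.allListK_append hfin_6 (Fn.allListK_append hfin_7 (Fn.allListK_append hfin_8 (Fn.allListK_append hfin_9 (Fn.allListK_append hfin_10 (Fn.allListK_append hfin_11 hfin_12))))))))))))

theorem hlen : finrecs.length = cN := by
  simp only [finrecs, List.length_append]
  decide +kernel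

theorem hrelc : relCheckK RW cR0 cR baseL rotW sw = true := by
  decide +kernel

theorem hlet : lettersK 6 baseL = true := by decide +kernel

end Cfsg.Agent.Lib.Helper12.TCG.Fi22Ia51840
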