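import Cfsg.Agent.Lib.Helper12.TCG.Fi22Ia51840.Chk0
import Cfsg.Agent.Lib.Helper12.TCG.Fi22Ia51840.Chk1
import Cfsg.Agent.Lib.Helper12.TCG.Fi22Ia51840.Chk2
import Cfsg.Agent.Lib.Helper12.TCG.Fi22Ia51840.Chk3
import Cfsg.Agent.Lib.Helper12.TCG.Fi22Ia51840.Chk4
import Cfsg.Agent.Lib.Helper12.TCG.Fi22Ia51840.Chk5
import Cfsg.Agent.Lib.Helper12.TCG.Fi22Ia51840.Chk6
import Cfsg.Agent.Lib.Helper12.TCG.Fi22Ia51840.Perm
import Cfsg.Agent.Lib.Helper12.TCG.Fi22Ia51840.Fin

/-! the index theorem for Fi22Ia51840 (generated, helper12) -/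

set_option autoImplicit false
set_option maxRecDepth 100000
set_option linter.unusedSimpArgs false

namespace Cfsg.Agent.Lib.Helper12.TCG.Fi22Ia51840

open Cfsg.Agent.Lib.Helper12.TC Cfsg.Agent.Lib.Helper12.TCG Cfsg.Agent.Lib.Helper12.Fi22M.PresI6

/-- the chunks of the certificate -/
def chunks : List (ℕ × List ℕ) :=
  [(51839, c0), (53839, c1), (55839, c2), (57839, c3), (59839, c4), (61839, c5), (63839, c6), (65839, c7), (67839, c8), (69839, c9), (71839, c10), (73839, c11), (75839, c12), (77839, c13), (79839, c14), (81839, c15), (83839, c16), (85839, c17), (87839, c18), (89839, c19), (91839, c20), (93839, c21), (95839, c22), (97839, c23), (99839, c24), (101839, c25), (103839, c26), (105839, c27), (107839, c28), (109839, c29), (111839, c30), (113839, c31), (115839, c32), (117839, c33), (119839, c34), (121839, c35), (123839, c36), (125839, c37), (127839, c38), (129839, c39), (131839, c40), (133839, c41), (135839, c42), (137839, c43), (139839, c44), (141839, c45), (143839, c46), (145839, c47), (147839, c48), (149839, c49),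 (151839, c50), (153839, c51)]

theorem hcover : coverK cD cK chunks = true := by decide +kernel

theorem hchunks : ∀ c ∈ chunks, chunkG cIV F RW cR0 c.2 c.1 = true := by
  unfold chunks
  simp only [List.forall_mem_cons, List.not_mem_nil, false_imp_iff, implies_true, and_true]
  exact ⟨chunk0, chunk1, chunk2, chunk3, chunk4, chunk5, chunk6, chunk7, chunk8, chunk9, chunk10, chunk11, chunk12, chunk13, chunk14, chunk15, chunk16, chunk17, chunk18, chunk19, chunk20, chunk21, chunk22, chunk23, chunk24, chunk25, chunk26, chunk27, chunk28, chunk29, chunk30, chunk31, chunk32, chunk33, chunk34, chunk35, chunk36, chunk37, chunk38, chunk39, chunk40, chunk41, chunk42, chunk43, chunk44, chunk45, chunk46, chunk47, chunk48, chunk49, chunk50, chunk51⟩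

end Cfsg.Agent.Lib.Helper12.TCG.Fi22Ia51840
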